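import Groth.Agent.H18.Counit.EpiCrit
import Groth.Agent.H18.Ideal.MulIdeal
import Groth.Agent.H96.FiniteTypeExt
import Groth.Agent.S3566
import Groth.Agent.H18.STL.OI.Restrict
import Groth.Agent.H67.ParaMono

/-!
# Relative ampleness from epimorphic counits on twisted ideals (EGA II 4.6.8 c) ⇒ a)) (helper18)

* `span_germ_preimage_eq_top_of_epi_counit`, `exists_isGenAt_of_epi_counit_comp`
* `exists_section_isGenAt_basicOpen`, `genLocus_funHom_comp`
* `isFiniteType_idealMod`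
* `isRelAmple_of_ideal_twists`
-/

set_option autoImplicit false
set_option linter.style.haveILetI false
universe u
open CategoryTheory CategoryTheory.Limits AlgebraicGeometry TopologicalSpace Opposite TensorProduct

namespace Groth.Agent.H18.CounitCrit

open Groth.Agent.H18 Groth.Agent.H18.PUP Groth.Agent.H18.STL Groth.Agent.H5.Stalk
open Groth.Agent.H18.IdealTw

variable {X Y : Scheme.{u}}

/-- if `f^* f_* M ⟶ M` is an epimorphism then the stalk of `M` at `x` is spanned by the germs of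
the sections over preimages of neighbourhoods of `f x` -/
theorem span_germ_preimage_eq_top_of_epi_counit (f : X ⟶ Y) (M : X.Modules)
    (hepi : Epi ((Scheme.Modules.pullbackPushforwardAdjunction f).counit.app M)) (x : X) :
    Submodule.span (X.presheaf.stalk x)
      (Set.range fun i : (Σ V₀ : {V₀ : Y.Opens // x ∈ f ⁻¹ᵁ V₀}, Γ(M, f ⁻¹ᵁ V₀.1)) =>
        (M.presheaf.germ (f ⁻¹ᵁ i.1.1) x i.1.2 i.2 : (stalkFunctor x).obj M)) = ⊤ := by
  refine @stalk_eq_top_of_epi X _ M _ hepi x _ ?_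
  have hnat := (Scheme.Modules.pullbackPushforwardAdjunction f).counit.naturality
    (toSky x (ModuleCat.ofHom (Submodule.span (X.presheaf.stalk x)
      (Set.range fun i : (Σ V₀ : {V₀ : Y.Opens // x ∈ f ⁻¹ᵁ V₀}, Γ(M, f ⁻¹ᵁ V₀.1)) =>
        (M.presheaf.germ (f ⁻¹ᵁ i.1.1) x i.1.2 i.2 : (stalkFunctor x).obj M))).mkQ))
  have hzero : (Scheme.Modules.pushforward f).map
      (toSky x (ModuleCat.ofHom (Submodule.span (X.presheaf.stalk x)
        (Set.range fun i : (Σ V₀ : {V₀ : Y.Opens // x ∈ f ⁻¹ᵁ V₀}, Γ(M, f ⁻¹ᵁ V₀.1)) =>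
          (M.presheaf.germ (f ⁻¹ᵁ i.1.1) x i.1.2 i.2 : (stalkFunctor x).obj M))).mkQ)) = 0 := by
    ext V₀ τ
    refine funext (fun h => ?_)
    refine (toSky_app_apply x _ (f ⁻¹ᵁ V₀) τ h).trans ?_
    exact (Submodule.Quotient.mk_eq_zero (Submodule.span (X.presheaf.stalk x)
      (Set.range fun i : (Σ V₀ : {V₀ : Y.Opens // x ∈ f ⁻¹ᵁ V₀}, Γ(M, f ⁻¹ᵁ V₀.1)) =>
        (M.presheaf.germ (f ⁻¹ᵁ i.1.1) x i.1.2 i.2 : (stalkFunctor x).obj M)))).2
      (Submodule.subset_span ⟨⟨⟨V₀, h.down⟩, τ⟩, rfl⟩)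
  simp only [Functor.comp_map, Functor.id_map] at hnat
  refine hnat.symm.trans ?_
  rw [hzero, Functor.map_zero, zero_comp]
  rfl

/-- if `f^* f_* G ⟶ G` is an epimorphism and `μ : G ⟶ L` is surjective on the stalks at `x`, with
`L` invertible, then some section of `G` over the preimage of a neighbourhood of `f x` is mapped by
`μ` to a generator of `L` near `x` -/
theorem exists_isGenAt_of_epi_counit_comp (f : X ⟶ Y) {G L : X.Modules} (hL : PicF.IsInvertible L)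
    (hepi : Epi ((Scheme.Modules.pullbackPushforwardAdjunction f).counit.app G))
    (μ : G ⟶ L) (x : X) (hμ : Function.Surjective ((stalkFunctor x).map μ).hom) :
    ∃ (V₀ : Y.Opens) (_ : f x ∈ V₀) (t : Γ(G, f ⁻¹ᵁ V₀)), IsGenAt L (μ.app (f ⁻¹ᵁ V₀) t) x := by
  have h0 := span_germ_preimage_eq_top_of_epi_counit f G hepi x
  have hspan : Submodule.span (X.presheaf.stalk x)
      (Set.range fun i : (Σ V₀ : {V₀ : Y.Opens // x ∈ f ⁻¹ᵁ V₀}, Γ(G, f ⁻¹ᵁ V₀.1)) =>
        (L.presheaf.germ (f ⁻¹ᵁ i.1.1) x i.1.2 (μ.app (f ⁻¹ᵁ i.1.1) i.2) :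
          (stalkFunctor x).obj L)) = ⊤ := by
    have key : Submodule.span (X.presheaf.stalk x)
        (Set.range fun i : (Σ V₀ : {V₀ : Y.Opens // x ∈ f ⁻¹ᵁ V₀}, Γ(G, f ⁻¹ᵁ V₀.1)) =>
          (G.presheaf.germ (f ⁻¹ᵁ i.1.1) x i.1.2 i.2 : (stalkFunctor x).obj G)) ≤
        Submodule.comap ((stalkFunctor x).map μ).hom
          (Submodule.span (X.presheaf.stalk x)
            (Set.range fun i : (Σ V₀ : {V₀ : Y.Opens // x ∈ f ⁻¹ᵁ V₀}, Γ(G, f ⁻¹ᵁ V₀.1)) =>
              (L.presheaf.germ (f ⁻¹ᵁ i.1.1) x i.1.2 (μ.app (f ⁻¹ᵁ i.1.1) i.2) :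
                (stalkFunctor x).obj L))) := by
      refine Submodule.span_le.2 ?_
      rintro _ ⟨i, rfl⟩
      refine Submodule.subset_span ⟨i, ?_⟩
      exact (Groth.Agent.H5.Stalk.Tensor.stalkFunctor_map_gm x μ _ i.1.2 _).symm
    refine eq_top_iff.2 ?_
    intro m _
    obtain ⟨m', rfl⟩ := hμ m
    refine key ?_
    rw [h0]
    exact Submodule.mem_top
  obtain ⟨i, hi⟩ := exists_isGenAt_of_span_eq_top hL x
    (fun i : (Σ V₀ : {V₀ : Y.Opens // x ∈ f ⁻¹ᵁ V₀}, Γ(G, f ⁻¹ᵁ V₀.1)) => f ⁻¹ᵁ i.1.1)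
    (fun i => i.1.2) (fun i => μ.app (f ⁻¹ᵁ i.1.1) i.2) hspan
  exact ⟨i.1.1, i.1.2, i.2, hi⟩


/-- on a quasi-compact quasi-separated scheme, a section of an invertible module over `Z_r` can be
replaced by a global section generating at the same points of `Z_r` -/
theorem exists_section_isGenAt_basicOpen {Z : Scheme.{u}} [CompactSpace Z]
    [QuasiSeparatedSpace Z] {F : Z.Modules} (hF : PicF.IsInvertible F)
    (r : Γ(Z, (⊤ : Z.Opens))) (τ : Γ(F, Z.basicOpen r)) :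
    ∃ b : Coh.structureModule Z ⟶ F, ∀ z ∈ Z.basicOpen r,
      (z ∈ CohB1.genLocus F b ↔ IsGenAt F τ z) := by
  have hO : PicF.IsInvertible (Coh.structureModule Z) :=
    Groth.Agent.H67.ParaExt.isInvertible_structureModule
  haveI := isQuasicoherent_of_isInvertible hF
  have hG : CohB1.genLocus (Coh.structureModule Z) (funHom r) = Z.basicOpen r := genLocus_funHom r
  obtain ⟨m, -, t', ht'⟩ := exists_extension hO (funHom r) F (mres F hG.le τ)
  obtain ⟨𝔄⟩ := nonempty_atlas hF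
  have w₁ := (hasWeight_self 𝔄).tmul ((hasWeight_unit 𝔄).lpow m)
  have hw : 1 + 0 * m = 1 := by omega
  rw [hw] at w₁
  obtain ⟨b, -, hb⟩ := w₁.exists_transfer (hasWeight_self 𝔄) (sectionHom _ t')
  refine ⟨b, fun z hz => ?_⟩
  have hzG : z ∈ CohB1.genLocus (Coh.structureModule Z) (funHom r) := hG.symm ▸ hz
  rw [hb, mem_genLocus_iff_isGenAt _ hzG, val_sectionHom, ht',
    isGenAt_twist_iff hO hF (funHom r) m le_rfl _ hzG, isGenAt_mres_iff hG.le τ hzG]

/-- the locus where `r • b` generates is `Z_r ∩ Z_b` -/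
theorem genLocus_funHom_comp {Z : Scheme.{u}} {F : Z.Modules} (hF : PicF.IsInvertible F)
    (r : Γ(Z, (⊤ : Z.Opens))) (b : Coh.structureModule Z ⟶ F) :
    CohB1.genLocus F (funHom r ≫ b) = Z.basicOpen r ⊓ CohB1.genLocus F b := by
  ext z
  obtain ⟨V, e, hzV, he⟩ := exists_basis_of_isInvertible hF z
  obtain ⟨c, hc⟩ := (he V le_rfl).2 (SecTwist.val b V)
  have hc' : SecTwist.val b V = c • e := by
    have := hc
    simp only [mres_self] at this
    exact this.symm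
  have h1 := genLocus_inf_eq_basicOpen b he c hc'
  have hval : SecTwist.val (funHom r ≫ b) V = (rres Z (le_top : V ≤ ⊤) r * c) • e := by
    have h2 : SecTwist.val (funHom r ≫ b) V = b.app V (SecTwist.val (funHom r) V) := rfl
    have h3 : b.app V (rres Z (le_top : V ≤ ⊤) r • oneSec Z V) =
        rres Z (le_top : V ≤ ⊤) r • b.app V (oneSec Z V) :=
      Scheme.Modules.Hom.app_smul b _ _
    have h4 : b.app V (oneSec Z V) = SecTwist.val b V := rfl
    rw [h2, val_funHom, h3, h4, hc', smul_smul]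
  have h2 := genLocus_inf_eq_basicOpen (funHom r ≫ b) he _ hval
  rw [Scheme.basicOpen_mul, rres, Scheme.basicOpen_res] at h2
  constructor
  · intro hz
    have h3 : z ∈ CohB1.genLocus F (funHom r ≫ b) ⊓ V := ⟨hz, hzV⟩
    rw [h2] at h3
    have h4 : z ∈ CohB1.genLocus F b ⊓ V := by
      rw [h1]
      exact h3.2
    exact ⟨h3.1.2, h4.1⟩
  · rintro ⟨hzr, hzb⟩
    have h3 : z ∈ (V ⊓ Z.basicOpen r) ⊓ Z.basicOpen c := by
      refine ⟨⟨hzV, hzr⟩, ?_⟩
      rw [← h1]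
      exact ⟨hzb, hzV⟩
    rw [← h2] at h3
    exact h3.1


/-- the ideal module of a finite type ideal sheaf is of finite type -/
theorem isFiniteType_idealMod (I : X.IdealSheafData) (hI : BlowUp.IsFiniteTypeIdeal I) :
    SheafOfModules.IsFiniteType (R := X.ringCatSheaf) (ClSub.idealMod I) := by
  haveI : (ClSub.idealMod I).IsQuasicoherent := Groth.Agent.H44.isQuasicoherent_idealMod I
  refine isFiniteType_of_finite_sections (ClSub.idealMod I)
    (fun W : X.affineOpens => W.1) (iSup_affineOpens_eq_top _) (fun W => W.2) ?_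
  intro W
  let φ : Γ(ClSub.idealMod I, W.1) →ₗ[Γ(X, W.1)] (I.ideal W) :=
    { toFun := fun σ => ⟨OmegaSh.idealSect I W.1 σ, Groth.Agent.H71.IdealInv.idealSect_mem I W.2 σ⟩
      map_add' := fun a b => Subtype.ext (map_add (OmegaSh.idealSect I W.1) a b)
      map_smul' := fun r a => Subtype.ext (Groth.Agent.H71.IdealInv.idealSect_smul I r a) }
  have hφ : Function.Bijective φ := by
    constructor
    · intro a b hab
      exact Groth.Agent.H71.IdealInv.idealSect_injective I W.1 (congrArg Subtype.val hab)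
    · rintro ⟨y, hy⟩
      obtain ⟨σ, hσ⟩ := Groth.Agent.H71.IdealInv.exists_idealSect_eq I W.2 y hy
      exact ⟨σ, Subtype.ext hσ⟩
  haveI : Module.Finite Γ(X, W.1) (I.ideal W) := Module.Finite.iff_fg.2 (hI W)
  exact Module.Finite.equiv (LinearEquiv.ofBijective φ hφ).symm


/-- **EGA II 4.6.8, c) ⇒ a)**: if for every finite type ideal `I` some positive twist `I ⊗ L^n`
has epimorphic counit `f^* f_* ⟶ 𝟙`, then `L` is ample relative to `f` -/
theorem isRelAmple_of_ideal_twists [CompactSpace X] [X.IsSeparated] (f : X ⟶ Y) [QuasiCompact f]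
    {L : X.Modules} (hL : PicF.IsInvertible L)
    (h : ∀ I : X.IdealSheafData, BlowUp.IsFiniteTypeIdeal I → ∃ n : ℕ, 0 < n ∧
      Epi ((Scheme.Modules.pullbackPushforwardAdjunction f).counit.app
        (CohB1.tensorMod (ClSub.idealMod I) (CohB1.tensorPow L n)))) :
    RelAmple.IsRelAmple f L := by
  classical
  haveI : QuasiSeparatedSpace X := inferInstance
  refine ⟨inferInstance, fun V => ?_⟩
  set U₀ : X.Opens := f ⁻¹ᵁ V.1 with hU₀
  haveI : CompactSpace ↥(U₀ : Scheme.{u}) :=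
    isCompact_iff_compactSpace.1 (QuasiCompact.isCompact_preimage (f := f) _ V.1.2 V.2.isCompact)
  haveI : (U₀ : Scheme.{u}).IsSeparated := ⟨by
    rw [← terminal.comp_from U₀.ι]
    infer_instance⟩
  have hLZ : PicF.IsInvertible (L.restrict U₀.ι) :=
    Groth.Agent.H67.ParaMono.isInvertible_restrict U₀.ι L hL
  rw [Groth.Agent.S3566.result (U₀ : Scheme.{u}) (L.restrict U₀.ι) hLZ]
  refine TopologicalSpace.isTopologicalBasis_of_isOpen_of_nhds ?_ ?_
  · rintro _ ⟨n, s, rfl⟩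
    exact (CohB1.genLocus _ s).isOpen
  · intro z W' hzW' hW'
    let W'o : (U₀ : Scheme.{u}).Opens := ⟨W', hW'⟩
    have hxW : U₀.ι z ∈ U₀.ι ''ᵁ W'o := ⟨z, hzW', rfl⟩
    obtain ⟨U, hUaff, hxU, hUW⟩ := Opens.isBasis_iff_nbhd.1 X.isBasis_affineOpens hxW
    obtain ⟨I, hIfg, hIsupp⟩ :=
      Groth.Agent.H96.FiniteTypeExt.exists_finiteType_support_eq U hUaff.isCompact
    obtain ⟨n, hn, hepi⟩ := h I hIfg
    obtain ⟨m, rfl⟩ : ∃ m, n = m + 1 := ⟨n - 1, by omega⟩
    have hM : PicF.IsInvertible (CohB1.tensorPow L (m + 1)) := isInvertible_tensorPow hL _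
    have hx : U₀.ι z ∉ I.support := by
      intro hxs
      have : U₀.ι z ∈ (I.support : Set X) := hxs
      rw [hIsupp] at this
      exact this hxU
    obtain ⟨V₀, hxV₀, t, hgen⟩ := exists_isGenAt_of_epi_counit_comp f hM hepi
      (mulHom (ClSub.idealModι I) _) (U₀.ι z) (surjective_stalk_mulHom_ideal I _ hx)
    set s₀ := (mulHom (ClSub.idealModι I) (CohB1.tensorPow L (m + 1))).app (f ⁻¹ᵁ V₀) t with hs₀
    have hsU : ∀ y ∈ f ⁻¹ᵁ V₀, IsGenAt (CohB1.tensorPow L (m + 1)) s₀ y → y ∈ U := by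
      intro y hy hg
      have h1 := notMem_support_of_isGenAt I hM t hy hg
      by_contra hyU
      apply h1
      show y ∈ (I.support : Set X)
      rw [hIsupp]
      exact hyU
    have hfx : f (U₀.ι z) ∈ V.1 ⊓ V₀ := ⟨z.2, hxV₀⟩
    obtain ⟨g, hgle, hgx⟩ := V.2.exists_basicOpen_le ⟨f (U₀.ι z), hfx⟩ hfx.1
    have hle₀ : (⊤ : (U₀ : Scheme.{u}).Opens) ≤ (U₀.ι ≫ f) ⁻¹ᵁ V.1 := fun z' _ => z'.2
    set r : Γ((U₀ : Scheme.{u}), ⊤) := (U₀.ι ≫ f).appLE V.1 ⊤ hle₀ g with hr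
    have hbr : (U₀ : Scheme.{u}).basicOpen r = (U₀.ι ≫ f) ⁻¹ᵁ (Y.basicOpen g) := by
      rw [hr, Scheme.basicOpen_appLE, top_inf_eq]
    have hzr : z ∈ (U₀ : Scheme.{u}).basicOpen r := by
      rw [hbr]
      exact hgx
    have hle : U₀.ι ''ᵁ ((U₀ : Scheme.{u}).basicOpen r) ≤ f ⁻¹ᵁ V₀ := by
      rintro _ ⟨z', hz', rfl⟩
      rw [hbr] at hz'
      exact (hgle hz').2
    have hFZ : PicF.IsInvertible ((CohB1.tensorPow L (m + 1)).restrict U₀.ι) :=
      Groth.Agent.H67.ParaMono.isInvertible_restrict U₀.ι _ hM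
    obtain ⟨b, hb⟩ := exists_section_isGenAt_basicOpen hFZ r
      (OI.toRestrict U₀.ι (CohB1.tensorPow L (m + 1)) _ (mres _ hle s₀))
    have hgl := genLocus_funHom_comp hFZ r b
    obtain ⟨s', hs'⟩ := (exists_transfer_restrict_tensorPow hL U₀ (m + 1)).1 (funHom r ≫ b)
    have key : ∀ z' : ↥(U₀ : Scheme.{u}), z' ∈ CohB1.genLocus _ s' ↔
        (z' ∈ (U₀ : Scheme.{u}).basicOpen r ∧
          IsGenAt (CohB1.tensorPow L (m + 1)) s₀ (U₀.ι z')) := by
      intro z'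
      rw [hs', hgl]
      constructor
      · rintro ⟨h1, h2⟩
        refine ⟨h1, ?_⟩
        have h3 := (hb z' h1).1 h2
        have h4 := (isGenAt_restrict_iff U₀.ι (mres _ hle s₀)).1 h3
        exact (isGenAt_mres_iff hle s₀ ⟨z', h1, rfl⟩).1 h4
      · rintro ⟨h1, h2⟩
        refine ⟨h1, (hb z' h1).2 ?_⟩
        exact (isGenAt_restrict_iff U₀.ι (mres _ hle s₀)).2
          ((isGenAt_mres_iff hle s₀ ⟨z', h1, rfl⟩).2 h2)
    have hmem : ((CohB1.genLocus (CohB1.tensorPow (L.restrict U₀.ι) (m + 1)) s' :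
        (U₀ : Scheme.{u}).Opens) : Set ↥(U₀ : Scheme.{u})) ∈
        {T : Set ↥(U₀ : Scheme.{u}) | ∃ (n : ℕ)
          (s : Coh.structureModule (U₀ : Scheme.{u}) ⟶
            CohB1.tensorPow (L.restrict U₀.ι) (n + 1)),
          T = (CohB1.genLocus (CohB1.tensorPow (L.restrict U₀.ι) (n + 1)) s :
            Set ↥(U₀ : Scheme.{u}))} := ⟨m, s', rfl⟩
    refine ⟨_, hmem, (key z).2 ⟨hzr, hgen⟩, ?_⟩
    intro z' hz'
    obtain ⟨h1, h2⟩ := (key z').1 hz'
    have h3 : U₀.ι z' ∈ U := hsU _ (hle ⟨z', h1, rfl⟩) h2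
    obtain ⟨z'', hz'', heq⟩ := hUW h3
    have h4 : z'' = z' := U₀.ι.isOpenEmbedding.injective heq
    exact h4 ▸ hz''

end Groth.Agent.H18.CounitCrit
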