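import Groth.Agent.H18.STL.CounitEpi
import Groth.Agent.H5.PullbackTensor
import Groth.Agent.H67.AmplePullback
import Groth.Agent.H18.TwistPow
import Groth.Agent.H44.FiniteSections
import Groth.Agent.H18.FTypeCriterion
import Groth.Agent.H18.STL.TwistGG
import Groth.Agent.H18.STL.AmpleBasis

/-!
# A criterion for the counit `f^* f_* M ⟶ M` to be an epimorphism (helper18)

* `epi_counit_of_locally_globally_generated`
* `nonempty_restrict_tensorMod_iso`, `nonempty_restrict_tensorPow_iso`, `nonempty_restrict_twist_iso`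
* `isFiniteType_restrict_opens`
* `exists_forall_epi_counit_twist` (EGA II 4.6.8 a) ⇒ b))
-/

set_option autoImplicit false
set_option linter.style.haveILetI false
universe u
open CategoryTheory CategoryTheory.Limits AlgebraicGeometry TopologicalSpace Opposite TensorProduct

namespace Groth.Agent.H18.CounitCrit

open Groth.Agent.H18 Groth.Agent.H18.PUP Groth.Agent.H18.STL

variable {X Y : Scheme.{u}}

/-- a section vanishing locally vanishes -/
theorem sec_eq_zero_of_locally (F : X.Modules) (U : X.Opens) (s : Γ(F, U))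
    (h : ∀ x ∈ U, ∃ (W : X.Opens) (hW : W ≤ U), x ∈ W ∧ mres F hW s = 0) : s = 0 := by
  choose W hW hxW hs using h
  let ι := {x : X // x ∈ U}
  refine TopCat.Sheaf.eq_of_locally_eq' ⟨_, F.isSheaf⟩ (fun i : ι => W i.1 i.2) U
    (fun i => homOfLE (hW i.1 i.2)) ?_ s 0 ?_
  · intro x hx
    exact Opens.mem_iSup.mpr ⟨⟨x, hx⟩, hxW x hx⟩
  · intro i
    change mres F (hW i.1 i.2) s = F.presheaf.map (homOfLE (hW i.1 i.2)).op 0
    rw [map_zero]
    exact hs i.1 i.2

/-- if `counit ≫ g = 0` then `f_* g = 0` -/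
theorem pushforward_map_eq_zero (f : X ⟶ Y) {M Q : X.Modules} (g : M ⟶ Q)
    (hg : (Scheme.Modules.pullbackPushforwardAdjunction f).counit.app M ≫ g = 0) :
    (Scheme.Modules.pushforward f).map g = 0 := by
  set adj := Scheme.Modules.pullbackPushforwardAdjunction f
  have h1 : adj.homEquiv _ _ (adj.counit.app M ≫ g) = (Scheme.Modules.pushforward f).map g := by
    rw [Adjunction.homEquiv_unit, Functor.map_comp, ← Category.assoc,
      adj.right_triangle_components, Category.id_comp]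
  rw [← h1, hg, Adjunction.homEquiv_unit, Functor.map_zero, comp_zero]


theorem app_eq_zero_of_eq {M Q : X.Modules} (g : M ⟶ Q) {W W' : X.Opens} (h : W = W')
    (hg : g.app W' = 0) : g.app W = 0 := by
  subst h
  exact hg

/-- **Criterion for the counit `f^* f_* M ⟶ M` to be an epimorphism**: it suffices that `M` is
globally generated over the preimages of opens covering the image of `f`. -/
theorem epi_counit_of_locally_globally_generated (f : X ⟶ Y) (M : X.Modules)
    (h : ∀ x : X, ∃ V : Y.Opens, f x ∈ V ∧ ∃ (ι : Type u)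
      (p : (SheafOfModules.free ι : (f ⁻¹ᵁ V : Scheme.{u}).Modules) ⟶ M.restrict (f ⁻¹ᵁ V).ι),
      Epi p) :
    Epi ((Scheme.Modules.pullbackPushforwardAdjunction f).counit.app M) := by
  refine Preadditive.epi_of_cancel_zero _ (fun {Q} g hg => ?_)
  have hpush := pushforward_map_eq_zero f g hg
  have happ : ∀ V : Y.Opens, g.app (f ⁻¹ᵁ V) = 0 := fun V =>
    congrArg (fun φ => Scheme.Modules.Hom.app φ V) hpush
  have hloc : ∀ x : X, ∃ U : X.Opens, x ∈ U ∧ ∀ W' : X.Opens, W' ≤ U → g.app W' = 0 := by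
    intro x
    obtain ⟨V, hxV, ι, p, hp⟩ := h x
    refine ⟨f ⁻¹ᵁ V, hxV, ?_⟩
    have hgU : (Scheme.Modules.restrictFunctor (f ⁻¹ᵁ V).ι).map g = 0 := by
      have key : ∀ σ : Coh.structureModule (f ⁻¹ᵁ V : Scheme.{u}) ⟶ M.restrict (f ⁻¹ᵁ V).ι,
          σ ≫ (Scheme.Modules.restrictFunctor (f ⁻¹ᵁ V).ι).map g = 0 := by
        intro σ
        apply Groth.Agent.H54.PB.evOne_injective
        refine (Groth.Agent.H54.PB.evOne_comp σ _).trans ?_
        have h0 : g.app ((f ⁻¹ᵁ V).ι ''ᵁ ⊤) = 0 :=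
          app_eq_zero_of_eq g (f ⁻¹ᵁ V).ι_image_top (happ V)
        change (g.app ((f ⁻¹ᵁ V).ι ''ᵁ ⊤)) _ = _
        rw [h0]
        rfl
      refine (cancel_epi p).1 ?_
      refine Eq.trans ?_ comp_zero.symm
      refine Cofan.IsColimit.hom_ext (SheafOfModules.isColimitFreeCofan ι) _ _ (fun i => ?_)
      change SheafOfModules.ιFree i ≫ p ≫ _ = SheafOfModules.ιFree i ≫ 0
      refine Eq.trans ?_ comp_zero.symm
      refine Eq.trans (Category.assoc _ _ _).symm ?_
      exact key _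
    intro W' hW'
    have h1 : g.app ((f ⁻¹ᵁ V).ι ''ᵁ ((f ⁻¹ᵁ V).ι ⁻¹ᵁ W')) = 0 :=
      congrArg (fun φ => Scheme.Modules.Hom.app φ ((f ⁻¹ᵁ V).ι ⁻¹ᵁ W')) hgU
    refine app_eq_zero_of_eq g ?_ h1
    rw [Scheme.Hom.image_preimage_eq_opensRange_inf, Scheme.Opens.opensRange_ι]
    exact (inf_eq_right.2 hW').symm
  ext W s
  refine sec_eq_zero_of_locally Q W _ (fun x hx => ?_)
  obtain ⟨U, hxU, hU⟩ := hloc x
  refine ⟨W ⊓ U, inf_le_left, ⟨hx, hxU⟩, ?_⟩
  rw [hom_app_mres, hU _ inf_le_right]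
  rfl


section RestrictTensor

/-- tensor powers of isomorphic modules are isomorphic -/
theorem nonempty_tensorPow_iso {L L' : X.Modules} (e : L ≅ L') (n : ℕ) :
    Nonempty (CohB1.tensorPow L n ≅ CohB1.tensorPow L' n) := by
  induction n with
  | zero => exact ⟨Iso.refl _⟩
  | succ n ih =>
    obtain ⟨φ⟩ := ih
    exact ⟨tensorModMapIsoLeft φ L ≪≫ tensorModMapIsoRight _ e⟩

/-- restriction to an open commutes with the tensor product -/
theorem nonempty_restrict_tensorMod_iso (U : X.Opens) (F G : X.Modules) :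
    Nonempty ((CohB1.tensorMod F G).restrict U.ι ≅
      CohB1.tensorMod (F.restrict U.ι) (G.restrict U.ι)) := by
  let eF : (Scheme.Modules.pullback U.ι).obj F ≅ F.restrict U.ι :=
    ((Scheme.Modules.restrictFunctorIsoPullback U.ι).app F).symm
  let eG : (Scheme.Modules.pullback U.ι).obj G ≅ G.restrict U.ι :=
    ((Scheme.Modules.restrictFunctorIsoPullback U.ι).app G).symm
  exact ⟨(Scheme.Modules.restrictFunctorIsoPullback U.ι).app _ ≪≫
    Groth.Agent.H5.PullbackTensor.pullbackTensorIso U.ι F G ≪≫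
    tensorModMapIsoLeft eF _ ≪≫ tensorModMapIsoRight _ eG⟩

/-- restriction to an open commutes with tensor powers -/
theorem nonempty_restrict_tensorPow_iso (U : X.Opens) (L : X.Modules) (n : ℕ) :
    Nonempty ((CohB1.tensorPow L n).restrict U.ι ≅ CohB1.tensorPow (L.restrict U.ι) n) := by
  obtain ⟨φ⟩ := Groth.Agent.H67.AmplePullback.nonempty_pullback_tensorPow_iso U.ι L n
  obtain ⟨ψ⟩ := nonempty_tensorPow_iso
    ((Scheme.Modules.restrictFunctorIsoPullback U.ι).app L).symm n
  exact ⟨(Scheme.Modules.restrictFunctorIsoPullback U.ι).app _ ≪≫ φ ≪≫ ψ⟩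

/-- restriction to an open commutes with twisting -/
theorem nonempty_restrict_twist_iso (U : X.Opens) (F L : X.Modules) (n : ℕ) :
    Nonempty ((CohB1.tensorMod F (CohB1.tensorPow L n)).restrict U.ι ≅
      CohB1.tensorMod (F.restrict U.ι) (CohB1.tensorPow (L.restrict U.ι) n)) := by
  obtain ⟨φ⟩ := nonempty_restrict_tensorMod_iso U F (CohB1.tensorPow L n)
  obtain ⟨ψ⟩ := nonempty_restrict_tensorPow_iso U L n
  exact ⟨φ ≪≫ tensorModMapIsoRight _ ψ⟩

end RestrictTensor


section FiniteType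

/-- a quasi-coherent module with finite modules of sections on an affine open cover is of finite
type -/
theorem isFiniteType_of_finite_sections (M : X.Modules) [M.IsQuasicoherent] {ι : Type u}
    (U : ι → X.Opens) (hcov : IsOpenCover U) (hUa : ∀ i, IsAffineOpen (U i))
    (hfin : ∀ i, Module.Finite Γ(X, U i) Γ(M, U i)) :
    SheafOfModules.IsFiniteType (R := X.ringCatSheaf) M := by
  choose n s hs using fun i : ι => Module.Finite.exists_fin (R := Γ(X, U i)) (M := Γ(M, U i))
  exact Groth.Agent.H18.isFiniteType_of_isQuasicoherent_of_span_eq_top _ U hcov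
    hUa (fun i => ULift.{u} (Fin (n i))) (fun i j => s i j.down) (fun i => by
      have : (Set.range fun j : ULift.{u} (Fin (n i)) => s i j.down) = Set.range (s i) := by
        ext y; constructor
        · rintro ⟨j, rfl⟩; exact ⟨j.down, rfl⟩
        · rintro ⟨j, rfl⟩; exact ⟨⟨j⟩, rfl⟩
      rw [this]; exact hs i)

/-- the restriction of a quasi-coherent module of finite type to an open subscheme is of finite
type -/
theorem isFiniteType_restrict_opens (U : X.Opens) (M : X.Modules) [M.IsQuasicoherent]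
    [SheafOfModules.IsFiniteType (R := X.ringCatSheaf) M] :
    SheafOfModules.IsFiniteType (R := (U : Scheme.{u}).ringCatSheaf) (M.restrict U.ι) := by
  haveI : (M.restrict U.ι).IsQuasicoherent :=
    Scheme.Modules.isQuasicoherent_restrictFunctor U.ι M
  refine isFiniteType_of_finite_sections (M.restrict U.ι)
    (fun W : (U : Scheme.{u}).affineOpens => W.1) (iSup_affineOpens_eq_top _) (fun W => W.2) ?_
  intro W
  have h := Groth.Agent.H44.finite_sections_of_isFiniteType M
    (W.2.image_of_isOpenImmersion U.ι)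
  let σ : Γ(X, U.ι ''ᵁ W.1) →+* Γ(U, W.1) := (U.ι.appIso W.1).hom.hom
  let φ : Γ(M, U.ι ''ᵁ W.1) →ₛₗ[σ] Γ(M.restrict U.ι, W.1) :=
    { toFun := fun x => x
      map_add' := fun x y => rfl
      map_smul' := fun r x => by
        change r • x = ((U.ι.appIso W.1).inv ((U.ι.appIso W.1).hom r)) • x
        congr 1
        exact (congrArg (fun φ => φ.hom r) (U.ι.appIso W.1).hom_inv_id).symm }
  exact Module.Finite.of_surjective φ (fun y => ⟨y, rfl⟩)

end FiniteType


section Twist

/-- over the preimage of an affine open, large twists of a quasi-coherent module of finite type by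
a relatively ample module are globally generated -/
theorem exists_forall_epi_free_restrict (f : X ⟶ Y) {L : X.Modules}
    (hL : RelAmple.IsRelAmple f L) (F : X.Modules) [F.IsQuasicoherent]
    [SheafOfModules.IsFiniteType (R := X.ringCatSheaf) F] (V : Y.Opens) (hV : IsAffineOpen V) :
    ∃ n₀ : ℕ, ∀ n, n₀ ≤ n → ∃ (ι : Type u)
      (p : (SheafOfModules.free ι : (f ⁻¹ᵁ V : Scheme.{u}).Modules) ⟶
        (CohB1.tensorMod F (CohB1.tensorPow L n)).restrict (f ⁻¹ᵁ V).ι), Epi p := by
  have hA : CohB1.IsAmple (L.restrict (f ⁻¹ᵁ V).ι) := hL.2 ⟨V, hV⟩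
  haveI : QuasiSeparatedSpace ↥(f ⁻¹ᵁ V : Scheme.{u}) := quasiSeparatedSpace_of_cover hA.1 hA.2.2
  haveI : (F.restrict (f ⁻¹ᵁ V).ι).IsQuasicoherent :=
    Scheme.Modules.isQuasicoherent_restrictFunctor (f ⁻¹ᵁ V).ι F
  haveI : SheafOfModules.IsFiniteType (R := (f ⁻¹ᵁ V : Scheme.{u}).ringCatSheaf)
      (F.restrict (f ⁻¹ᵁ V).ι) := isFiniteType_restrict_opens (f ⁻¹ᵁ V) F
  obtain ⟨n₀, h⟩ := exists_forall_epi_free_of_isAmple hA (F.restrict (f ⁻¹ᵁ V).ι)
  refine ⟨n₀, fun n hn => ?_⟩
  obtain ⟨ι, p, hp⟩ := h n hn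
  obtain ⟨e⟩ := nonempty_restrict_twist_iso (f ⁻¹ᵁ V) F L n
  have he : Epi e.inv := IsIso.epi_of_iso e.inv
  exact ⟨ι, p ≫ e.inv, @CategoryTheory.epi_comp _ _ _ _ _ p hp e.inv he⟩

/-- **EGA II 4.6.8, a) ⇒ b)**: for `L` ample relative to `f` and `F` quasi-coherent of finite type
on the quasi-compact `X`, the counit `f^* f_* (F ⊗ L^n) ⟶ F ⊗ L^n` is an epimorphism for all
large `n` -/
theorem exists_forall_epi_counit_twist [CompactSpace X] (f : X ⟶ Y) {L : X.Modules}
    (hL : RelAmple.IsRelAmple f L) (F : X.Modules) [F.IsQuasicoherent]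
    [SheafOfModules.IsFiniteType (R := X.ringCatSheaf) F] :
    ∃ N : ℕ, ∀ n, N ≤ n → Epi ((Scheme.Modules.pullbackPushforwardAdjunction f).counit.app
      (CohB1.tensorMod F (CohB1.tensorPow L n))) := by
  classical
  have hV : ∀ x : X, ∃ V : Y.Opens, IsAffineOpen V ∧ f x ∈ V := by
    intro x
    obtain ⟨V, hVaff, hxV, -⟩ := Opens.isBasis_iff_nbhd.1 Y.isBasis_affineOpens
      (show f x ∈ (⊤ : Y.Opens) from trivial)
    exact ⟨V, hVaff, hxV⟩
  choose V hVaff hxV using hV
  obtain ⟨t, ht⟩ := isCompact_univ.elim_finite_subcover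
    (fun x : X => ((f ⁻¹ᵁ V x : X.Opens) : Set X)) (fun x => (f ⁻¹ᵁ V x).isOpen)
    (fun x _ => Set.mem_iUnion.2 ⟨x, hxV x⟩)
  choose n₀ hn₀ using fun x : X => exists_forall_epi_free_restrict f hL F (V x) (hVaff x)
  refine ⟨t.sup n₀, fun n hn => ?_⟩
  refine epi_counit_of_locally_globally_generated f _ (fun x' => ?_)
  obtain ⟨x, hx⟩ := Set.mem_iUnion.1 (ht (Set.mem_univ x'))
  obtain ⟨hxt, hx'⟩ := Set.mem_iUnion.1 hx
  exact ⟨V x, hx', hn₀ x n ((Finset.le_sup hxt).trans hn)⟩

end Twist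

end Groth.Agent.H18.CounitCrit
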