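import Groth.Agent.H18.Counit.Converse
import Groth.Agent.H22.QCohLoc

/-!
# Quasi-affine morphisms and the counit `f^* f_* F ⟶ F` (EGA II 5.1.6 a) ⇔ d)) (helper18)

* `isGGAt_of_isQuasiAffine`, `epi_counit_of_isQuasiAffine`, `isSeparated_of_isQuasiAffine`
* `exists_basicOpen_eq_of_qcqs`, `isGenAt_structureModule_iff`, `surjective_stalk_idealModι`
* `isQuasiAffine_preimage_of_epi_counit`
-/

set_option autoImplicit false
set_option linter.style.haveILetI false
universe u
open CategoryTheory CategoryTheory.Limits AlgebraicGeometry TopologicalSpace Opposite TensorProduct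

namespace Groth.Agent.H18.CounitCrit

open Groth.Agent.H18 Groth.Agent.H18.PUP Groth.Agent.H18.STL Groth.Agent.H5.Stalk
open Groth.Agent.H18.IdealTw

variable {X Y : Scheme.{u}}

/-- on a quasi-affine scheme every quasi-coherent module is generated by its global sections -/
theorem isGGAt_of_isQuasiAffine {Z : Scheme.{u}} [Z.IsQuasiAffine] (G : Z.Modules)
    [G.IsQuasicoherent] (z : Z) : IsGGAt G z := by
  obtain ⟨_, ⟨r, hraff, rfl⟩, hzr, -⟩ := Opens.isBasis_iff_nbhd.1
    (Scheme.IsQuasiAffine.isBasis_basicOpen Z) (show z ∈ (⊤ : Z.Opens) from trivial)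
  have hspan := span_germ_eq_top_of_span_eq_top G hraff (fun y : Γ(G, Z.basicOpen r) => y)
    (by
      have : (Set.range fun y : Γ(G, Z.basicOpen r) => y) = Set.univ := Set.range_id
      rw [this, Submodule.span_univ]) hzr
  unfold IsGGAt
  refine eq_top_iff.2 (le_trans (le_of_eq hspan.symm) ?_)
  refine Submodule.span_le.2 ?_
  rintro _ ⟨y, rfl⟩
  obtain ⟨n, s, hs⟩ := Groth.Agent.H22.exists_pow_smul_eq_res_of_qcqs G (U := ⊤)
    isCompact_univ isQuasiSeparated_univ r y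
  have hu : IsUnit (Z.presheaf.germ (Z.basicOpen r) z hzr
      (Z.presheaf.map (homOfLE (Z.basicOpen_le r)).op r)) := by
    have h1 := RingedSpace.isUnit_res_basicOpen Z.toRingedSpace r
    exact h1.map _
  obtain ⟨u, hu⟩ := hu
  have h2 : (G.presheaf.germ ⊤ z trivial s : (stalkFunctor z).obj G) =
      (u : Z.presheaf.stalk z) ^ n • (G.presheaf.germ (Z.basicOpen r) z hzr y :
        (stalkFunctor z).obj G) := by
    have h3 := TopCat.Presheaf.germ_res_apply G.presheaf (homOfLE (Z.basicOpen_le r)) z hzr s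
    refine h3.symm.trans ?_
    have h4 := congrArg (G.presheaf.germ (Z.basicOpen r) z hzr) hs
    refine h4.trans ?_
    refine (germ_smul G z (Z.basicOpen r) hzr _ y).trans ?_
    rw [map_pow, hu]
  have h5 : (G.presheaf.germ (Z.basicOpen r) z hzr y : (stalkFunctor z).obj G) =
      ((u⁻¹ : (Z.presheaf.stalk z)ˣ) : Z.presheaf.stalk z) ^ n •
        (G.presheaf.germ ⊤ z trivial s : (stalkFunctor z).obj G) := by
    rw [h2, smul_smul, ← mul_pow, Units.inv_mul, one_pow, one_smul]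
  show (G.presheaf.germ (Z.basicOpen r) z hzr y : (stalkFunctor z).obj G) ∈ globSpan G z
  rw [h5]
  exact Submodule.smul_mem _ _ (germ_mem_globSpan G z s)


/-- for a quasi-affine morphism the counit `f^* f_* F ⟶ F` is an epimorphism on quasi-coherent
modules -/
theorem epi_counit_of_isQuasiAffine (f : X ⟶ Y)
    (hf : ∀ V : Y.Opens, IsAffineOpen V → Scheme.IsQuasiAffine (f ⁻¹ᵁ V : Scheme.{u}))
    (F : X.Modules) [F.IsQuasicoherent] :
    Epi ((Scheme.Modules.pullbackPushforwardAdjunction f).counit.app F) := by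
  refine epi_counit_of_locally_globally_generated f F (fun x => ?_)
  obtain ⟨V, hVaff, hxV, -⟩ := Opens.isBasis_iff_nbhd.1 Y.isBasis_affineOpens
    (show f x ∈ (⊤ : Y.Opens) from trivial)
  haveI := hf V hVaff
  haveI : (F.restrict (f ⁻¹ᵁ V).ι).IsQuasicoherent :=
    Scheme.Modules.isQuasicoherent_restrictFunctor (f ⁻¹ᵁ V).ι F
  obtain ⟨ι, p, hp⟩ := exists_epi_free_of_forall_isGGAt
    (fun z => isGGAt_of_isQuasiAffine (F.restrict (f ⁻¹ᵁ V).ι) z)
  exact ⟨V, hxV, ι, p, hp⟩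

/-- a quasi-affine morphism is separated -/
theorem isSeparated_of_isQuasiAffine (f : X ⟶ Y)
    (hf : ∀ V : Y.Opens, IsAffineOpen V → Scheme.IsQuasiAffine (f ⁻¹ᵁ V : Scheme.{u})) :
    IsSeparated f := by
  refine IsZariskiLocalAtTarget.of_iSup_eq_top (P := @IsSeparated)
    (fun V : Y.affineOpens => V.1) (iSup_affineOpens_eq_top Y) (fun V => ?_)
  haveI := hf V.1 V.2
  infer_instance


/-- on a quasi-compact quasi-separated open `U₀`, the non-vanishing locus of a function on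
`(U₀)_ρ₀` is the non-vanishing locus of a function on `U₀` -/
theorem exists_basicOpen_eq_of_qcqs (U₀ : X.Opens) (hc : IsCompact (U₀ : Set X))
    (hqs : IsQuasiSeparated (U₀ : Set X)) (ρ₀ : Γ(X, U₀)) (φ : Γ(X, X.basicOpen ρ₀)) :
    ∃ ρ : Γ(X, U₀), X.basicOpen ρ = X.basicOpen φ := by
  obtain ⟨n, y, hy⟩ := exists_eq_pow_mul_of_isCompact_of_isQuasiSeparated X U₀ hc hqs ρ₀ φ
  refine ⟨ρ₀ * y, ?_⟩
  have h1 : X.basicOpen (X.presheaf.map (homOfLE (X.basicOpen_le ρ₀)).op y) =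
      X.basicOpen ρ₀ ⊓ X.basicOpen y := Scheme.basicOpen_res _ _ _
  have hu : IsUnit (X.presheaf.map (homOfLE (X.basicOpen_le ρ₀)).op ρ₀) :=
    RingedSpace.isUnit_res_basicOpen X.toRingedSpace ρ₀
  have h2 : X.basicOpen ((X.presheaf.map (homOfLE (X.basicOpen_le ρ₀)).op ρ₀) ^ n * φ) =
      X.basicOpen φ := by
    rw [Scheme.basicOpen_mul, X.basicOpen_of_isUnit (hu.pow n)]
    exact inf_eq_right.2 (X.basicOpen_le φ)
  rw [Scheme.basicOpen_mul, ← h1]
  have hy' : X.presheaf.map (homOfLE (X.basicOpen_le ρ₀)).op y =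
      (X.presheaf.map (homOfLE (X.basicOpen_le ρ₀)).op ρ₀) ^ n * φ := hy
  rw [hy', h2]


/-- a section `s` of the structure module is `s • 1` -/
theorem fnSect_smul_oneSec (W : X.Opens) (s : Γ(Coh.structureModule X, W)) :
    OmegaSh.fnSect X W s • oneSec X W = s := mul_one (OmegaSh.fnSect X W s)

/-- a section of the structure module generates where it does not vanish -/
theorem isGenAt_structureModule_iff {W : X.Opens} (s : Γ(Coh.structureModule X, W)) {x : X}
    (hx : x ∈ W) :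
    IsGenAt (Coh.structureModule X) s x ↔ x ∈ X.basicOpen (OmegaSh.fnSect X W s) := by
  have h := isGenAt_smul_basis_iff (isBasisOn_oneSec W) (OmegaSh.fnSect X W s) hx
  rw [fnSect_smul_oneSec] at h
  exact h

/-- the inclusion of an ideal module is surjective on stalks away from the support -/
theorem surjective_stalk_idealModι (I : X.IdealSheafData) {x : X} (hx : x ∉ I.support) :
    Function.Surjective ((stalkFunctor x).map (ClSub.idealModι I)).hom := by
  obtain ⟨W, a, hxW, ha⟩ := exists_idealSect_eq_one I hx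
  intro mx
  obtain ⟨U', hxU', m, rfl⟩ := Groth.Agent.H5.Stalk.Tensor.exists_gm_eq x
    (Coh.structureModule X) mx
  have hxW' : x ∈ W ⊓ U' := ⟨hxW, hxU'⟩
  have hl : W ⊓ U' ≤ W := inf_le_left
  have hr : W ⊓ U' ≤ U' := inf_le_right
  refine ⟨Groth.Agent.H5.Stalk.Tensor.gm x (ClSub.idealMod I) (W ⊓ U') hxW'
    ((OmegaSh.fnSect X _ (mres (Coh.structureModule X) hr m)) • mres (ClSub.idealMod I) hl a), ?_⟩
  refine (Groth.Agent.H5.Stalk.Tensor.stalkFunctor_map_gm x (ClSub.idealModι I) _ hxW' _).trans ?_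
  have e1 : (ClSub.idealModι I).app (W ⊓ U')
      ((OmegaSh.fnSect X _ (mres (Coh.structureModule X) hr m)) • mres (ClSub.idealMod I) hl a) =
      mres (Coh.structureModule X) hr m := by
    rw [Scheme.Modules.Hom.app_smul, ← hom_app_mres]
    have h2 : (ClSub.idealModι I).app W a = oneSec X W := ha
    rw [h2, mres_oneSec]
    exact fnSect_smul_oneSec _ _
  refine (congrArg (Groth.Agent.H5.Stalk.Tensor.gm x (Coh.structureModule X) (W ⊓ U') hxW')
    e1).trans ?_
  exact Groth.Agent.H5.Stalk.Tensor.gm_res x (Coh.structureModule X) (homOfLE hr) hxW' m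


/-- **EGA II 5.1.6, d) ⇒ a)**: a quasi-compact separated morphism whose counit `f^* f_* F ⟶ F` is
an epimorphism on all quasi-coherent modules is quasi-affine -/
theorem isQuasiAffine_preimage_of_epi_counit (f : X ⟶ Y) [QuasiCompact f] [IsSeparated f]
    (h : ∀ F : X.Modules, F.IsQuasicoherent →
      Epi ((Scheme.Modules.pullbackPushforwardAdjunction f).counit.app F))
    (V : Y.Opens) (hV : IsAffineOpen V) : Scheme.IsQuasiAffine (f ⁻¹ᵁ V : Scheme.{u}) := by
  classical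
  set U₀ : X.Opens := f ⁻¹ᵁ V with hU₀
  have hc : IsCompact (U₀ : Set X) :=
    QuasiCompact.isCompact_preimage (f := f) _ V.2 hV.isCompact
  have hqs : IsQuasiSeparated (U₀ : Set X) := f.isQuasiSeparated_preimage hV.isQuasiSeparated
  haveI : CompactSpace ↥(U₀ : Scheme.{u}) := isCompact_iff_compactSpace.1 hc
  refine Scheme.IsQuasiAffine.of_forall_exists_mem_basicOpen _ (fun z => ?_)
  have hzU₀ : z.1 ∈ U₀ := z.2
  obtain ⟨U, hUaff, hxU, hUU₀⟩ := Opens.isBasis_iff_nbhd.1 X.isBasis_affineOpens hzU₀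
  let T : Closeds X := ⟨(U : Set X)ᶜ, U.isOpen.isClosed_compl⟩
  set I := Scheme.IdealSheafData.vanishingIdeal T with hI
  have hsupp : (I.support : Set X) = (U : Set X)ᶜ :=
    Scheme.IdealSheafData.coe_support_vanishingIdeal T
  have hx : z.1 ∉ I.support := by
    intro hxs
    have : z.1 ∈ (I.support : Set X) := hxs
    rw [hsupp] at this
    exact this hxU
  have hepi := h (ClSub.idealMod I) (Groth.Agent.H44.isQuasicoherent_idealMod I)
  obtain ⟨V₀, hxV₀, t, hgen⟩ := exists_isGenAt_of_epi_counit_comp f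
    (Groth.Agent.H67.ParaExt.isInvertible_structureModule (X := X)) hepi
    (ClSub.idealModι I) z.1 (surjective_stalk_idealModι I hx)
  have hxV₀' : z.1 ∈ f ⁻¹ᵁ V₀ := hxV₀
  replace hgen := (isGenAt_structureModule_iff _ hxV₀').1 hgen
  set φ₀ := OmegaSh.fnSect X (f ⁻¹ᵁ V₀) ((ClSub.idealModι I).app (f ⁻¹ᵁ V₀) t) with hφ₀
  have hφU : X.basicOpen φ₀ ≤ U := by
    intro y hy
    by_contra hyU
    refine notMem_basicOpen_idealSect I ?_ t hy
    show y ∈ (I.support : Set X)
    rw [hsupp]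
    exact hyU
  have hfz : f z.1 ∈ V ⊓ V₀ := ⟨hzU₀, hxV₀⟩
  obtain ⟨g, hgle, hgx⟩ := hV.exists_basicOpen_le ⟨f z.1, hfz⟩ hfz.1
  set ρ₀ : Γ(X, U₀) := f.app V g with hρ₀
  have hbρ₀ : X.basicOpen ρ₀ = f ⁻¹ᵁ (Y.basicOpen g) := (Scheme.preimage_basicOpen f g).symm
  have hW : X.basicOpen ρ₀ ≤ f ⁻¹ᵁ V₀ := by
    rw [hbρ₀]
    exact fun y hy => (hgle hy).2
  obtain ⟨ρ, hρ⟩ := exists_basicOpen_eq_of_qcqs U₀ hc hqs ρ₀ (rres X hW φ₀)
  have hφ : X.basicOpen (rres X hW φ₀) = X.basicOpen ρ₀ ⊓ X.basicOpen φ₀ :=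
    Scheme.basicOpen_res _ _ _
  have hρU : X.basicOpen ρ ≤ U := by
    rw [hρ, hφ]
    exact inf_le_right.trans hφU
  have hzρ : z.1 ∈ X.basicOpen ρ := by
    rw [hρ, hφ, hbρ₀]
    exact ⟨hgx, hgen⟩
  have himg : U₀.ι ''ᵁ (U₀ : Scheme.{u}).basicOpen (U₀.topIso.inv ρ) = X.basicOpen ρ :=
    Scheme.Opens.ι_image_basicOpen_topIso_inv U₀ ρ
  refine ⟨U₀.topIso.inv ρ, ?_, ?_⟩
  · rw [← Scheme.Hom.isAffineOpen_iff_of_isOpenImmersion U₀.ι, himg]
    have h1 : X.basicOpen (rres X hUU₀ ρ) = U ⊓ X.basicOpen ρ := Scheme.basicOpen_res _ _ _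
    rw [inf_eq_right.2 hρU] at h1
    rw [← h1]
    exact hUaff.basicOpen _
  · have h1 : U₀.ι z ∈ U₀.ι ''ᵁ (U₀ : Scheme.{u}).basicOpen (U₀.topIso.inv ρ) := by
      rw [himg]
      exact hzρ
    obtain ⟨z', hz', heq⟩ := h1
    have h2 : z' = z := U₀.ι.isOpenEmbedding.injective heq
    exact h2 ▸ hz'

end Groth.Agent.H18.CounitCrit
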